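import Cfsg.Agent.Lib.ChevIso.Gen
import Cfsg.Agent.Lib.Geometry.OrthMatrix

/-! A Chevalley group onto the projective commutator group of a split orthogonal space. -/

set_option autoImplicit false

namespace CfsgLib.ChevIso

open QuadraticMap CfsgLib.Geometry Cfsg.Lie CfsgLib.Chev

variable {ι : Type} [Fintype ι] [DecidableEq ι] {F : Type*} [Field F] {V : VData ι}
  {Q : QuadraticForm F (ι → F)} {E : Subgroup (orth Q)}

theorem aniso_zero (h : Space V Q) {v : ι → F} (hv : Q v = 0) (hall : ∀ i, V.q i = 0 → v i = 0) : v = 0 := by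
  by_contra hv0
  obtain ⟨i, hi⟩ : ∃ i, v i ≠ 0 := by
    by_contra h'; push Not at h'; exact hv0 (funext h')
  have hqi : V.q i ≠ 0 := fun e => hi (hall i e)
  have : v = v i • bs F i := funext fun j => by
    rcases eq_or_ne j i with rfl | hj
    · simp
    · rw [Pi.smul_apply, bs, Pi.single_eq_of_ne hj, smul_zero]
      by_contra hne'
      exact hj (h.ok.one j i (fun e => hne' (hall j e)) hqi)
  rw [this, map_smul', h.diag, (h.ok.aniso i hqi).1, Int.cast_one, mul_one] at hv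
  exact hi (mul_self_eq_zero.1 hv)

/-- The residual elements. -/
def Resid (h : Space V Q) (c : ι) (hc : V.q c = 0) (S : Finset ι) : Set (orth Q) :=
  {r | ∃ d hd, (∀ i ∈ S, d i = 1) ∧ (r = dg h d hd ∨ r = sw h c hc * dg h d hd)}

/-- Monomial isometries normalise. -/
theorem conj_mem (h : Space V Q) (hE : Full h E) {D : ChevalleyDatum}
    (hgen : E = Subgroup.closure {g | ∃ (r : ℕ) (t : F), r < D.nroots ∧ g = xV h r t}) (n : orth Q) (π : ι → ι)
    (x : ι → F) (hn : ∀ i, (n : (ι → F) ≃ₗ[F] (ι → F)) (bs F i) = x i • bs F (π i)) (hx : ∀ i, x i ≠ 0) {g : orth Q}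
    (hg : g ∈ E) : n * g * n⁻¹ ∈ E := by
  have hg' : g ∈ Subgroup.closure {g | ∃ (r : ℕ) (t : F), r < D.nroots ∧ g = xV h r t} := hgen ▸ hg
  induction hg' using Subgroup.closure_induction with
  | mem g hg' =>
    obtain ⟨r, t, -, rfl⟩ := hg'
    set a := (V.tri r).1
    set w := (n : (ι → F) ≃ₗ[F] (ι → F)) ((((V.tri r).2.2 : F) * t) • bs F (V.tri r).2.1) with hw
    have hqa : V.q (π a) = 0 := by
      have h0 : Q ((n : (ι → F) ≃ₗ[F] (ι → F)) (bs F a)) = 0 := by rw [n.2, h.sing_zero (h.ok.tri_sing r)]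
      rw [hn, map_smul', h.diag] at h0
      have := (mul_eq_zero.1 h0).resolve_left (mul_ne_zero (hx a) (hx a))
      by_contra hne
      rw [(h.ok.aniso _ hne).1, Int.cast_one] at this
      exact one_ne_zero this
    have hp : polar Q ((n : (ι → F) ≃ₗ[F] (ι → F)) (bs F a)) w = 0 := by
      rw [hw, orth_polar n.2]; exact h.perp (h.ok.tri_perp r) _
    rw [hn] at hp
    have hp' : polar Q (bs F (π a)) (x a • w) = 0 := by rwa [polar_smul_right', ← polar_smul_left']
    convert hE.mem_vec hqa _ hp' using 1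
    refine Subtype.ext ?_
    show (n : (ι → F) ≃ₗ[F] (ι → F)) * siegel Q _ _ (h.sing_zero (h.ok.tri_sing r)) (h.perp (h.ok.tri_perp r) _) * _⁻¹ = _
    rw [siegel_conj n.2]
    refine LinearEquiv.ext fun v => ?_
    show siegel Q _ _ _ _ v = siegel Q (bs F (π a)) (x a • w) (h.sing_zero hqa) hp' v
    rw [siegel_apply, siegel_apply, hn, map_smul', polar_smul_right', polar_smul_right']
    simp only [← hw, show (V.tri r).1 = a from rfl]
    module
  | one => rw [mul_one, mul_inv_cancel]; exact one_mem _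
  | mul a b ha hb iha ihb =>
    rw [show n * (a * b) * n⁻¹ = (n * a * n⁻¹) * (n * b * n⁻¹) by group]
    exact mul_mem (iha (by rw [hgen]; exact ha)) (ihb (by rw [hgen]; exact hb))
  | inv a ha iha =>
    rw [show n * a⁻¹ * n⁻¹ = (n * a * n⁻¹)⁻¹ by group]
    exact inv_mem (iha (by rw [hgen]; exact ha))

theorem conj_dg (h : Space V Q) (hE : Full h E) {D : ChevalleyDatum}
    (hgen : E = Subgroup.closure {g | ∃ (r : ℕ) (t : F), r < D.nroots ∧ g = xV h r t}) (d : ι → F)
    (hd : ∀ i, d i * d (V.P i) = 1) {g : orth Q} (hg : g ∈ E) : dg h d hd * g * (dg h d hd)⁻¹ ∈ E :=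
  conj_mem h hE hgen _ id d (dg_bs h d hd) (fun i e => one_ne_zero (α := F) (by rw [← hd i, e, zero_mul])) hg

theorem conj_sw (h : Space V Q) (hE : Full h E) {D : ChevalleyDatum}
    (hgen : E = Subgroup.closure {g | ∃ (r : ℕ) (t : F), r < D.nroots ∧ g = xV h r t}) (c : ι) (hc : V.q c = 0)
    {g : orth Q} (hg : g ∈ E) : sw h c hc * g * (sw h c hc)⁻¹ ∈ E :=
  conj_mem h hE hgen _ (Equiv.swap c (V.P c)) (fun _ => 1) (fun i => by rw [sw_bs, one_smul])
    (fun _ => one_ne_zero) hg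

/-- The final stage of the reduction. -/
theorem resid (h : Space V Q) (hE : Full h E) {D : ChevalleyDatum}
    (hgen : E = Subgroup.closure {g | ∃ (r : ℕ) (t : F), r < D.nroots ∧ g = xV h r t}) {c : ι} (hc : V.q c = 0)
    {S : Finset ι} (hS : ∀ i ∈ S, V.P i ∈ S) (hSq : ∀ i ∈ S, V.q i = 0) (hcS : c ∉ S)
    (hall : ∀ i, V.q i = 0 → i ∈ S ∨ i = c ∨ i = V.P c) {g : orth Q} (hg : Fixes g S) :
    ∃ k ∈ E, k * g ∈ Resid h c hc S := by
  obtain ⟨hwc, hnec, hqPc⟩ := h.ok.sing c hc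
  have hPcS : V.P c ∉ S := fun e => hcS (by have := hS _ e; rwa [h.ok.invol] at this)
  have hswS : Fixes (sw h c hc) S := fun i hi => by
    rw [sw_bs, Equiv.swap_apply_of_ne_of_ne (fun e => hcS (by rw [← e]; exact hi)) (fun e => hPcS (by rw [← e]; exact hi))]
  have main : ∀ g : orth Q, Fixes g S → (g : (ι → F) ≃ₗ[F] (ι → F)) (bs F c) c ≠ 0 →
      ∃ k ∈ E, ∃ d hd, (∀ i ∈ S, d i = 1) ∧ k * g = dg h d hd := by
    intro g hg hvc
    set v := (g : (ι → F) ≃ₗ[F] (ι → F)) (bs F c)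
    have hvS : ∀ i ∈ S, v i = 0 := fun i hi =>
      coord_zero h hS hSq hg (fun j hj => Pi.single_eq_of_ne (fun e => hcS (by rw [← e]; exact hj)) _) hi
    obtain ⟨k₁, hk₁, hk₁S, hk₁v⟩ := clear_first h hE hc hS hcS (by rw [g.2, h.sing_zero hc]) hvc hvS
    obtain ⟨k₂, hk₂, hS2, hc2, hPc2⟩ := clear_pair h hE hc hS hSq hcS (hk₁S.mul hg) hvc hk₁v
    rw [← mul_assoc] at hS2 hc2 hPc2
    set m := k₂ * k₁ * g
    refine ⟨k₂ * k₁, mul_mem hk₂ hk₁, ?_⟩
    let d : ι → F := fun i => (m : (ι → F) ≃ₗ[F] (ι → F)) (bs F i) i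
    have hm : ∀ i, (m : (ι → F) ≃ₗ[F] (ι → F)) (bs F i) = d i • bs F i := by
      have hsing : ∀ i, V.q i = 0 → (m : (ι → F) ≃ₗ[F] (ι → F)) (bs F i) = d i • bs F i := fun i hi => by
        rcases hall i hi with hiS | rfl | rfl
        · simp [d, hS2 i hiS, bs]
        · simp [d, hc2, bs]
        · simp [d, hPc2, bs]
      intro i
      by_cases hi : V.q i = 0
      · exact hsing i hi
      funext j
      rcases eq_or_ne j i with rfl | hji
      · simp [d, bs]
      rw [Pi.smul_apply, bs, Pi.single_eq_of_ne hji, smul_zero]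
      by_cases hj : V.q j = 0
      · have hPj := (h.ok.sing j hj).2.2
        have hdne : d (V.P j) ≠ 0 := fun e => by
          have h0 := hsing _ hPj
          rw [e, zero_smul] at h0
          have := congrFun ((m : (ι → F) ≃ₗ[F] (ι → F)).injective (h0.trans (map_zero _).symm)) (V.P j)
          simp at this
        have h1 := orth_polar m.2 (bs F i) (bs F (V.P j))
        rw [hsing _ hPj, polar_smul_right', h.pol, h.pol, (h.ok.sing _ hPj).1, h.ok.invol, Int.cast_one, one_mul,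
          one_mul, show bs F i j = 0 from Pi.single_eq_of_ne hji _] at h1
        exact (mul_eq_zero.1 h1).resolve_left hdne
      · exact absurd (h.ok.one j i hj hi) hji
    have hd : ∀ i, d i * d (V.P i) = 1 := fun i => by
      by_cases hi : V.q i = 0
      · have h1 := orth_polar m.2 (bs F i) (bs F (V.P i))
        rw [hm, hm, polar_smul_left', polar_smul_right', h.pol, (h.ok.sing _ (h.ok.sing i hi).2.2).1, h.ok.invol,
          Int.cast_one, one_mul, show bs F i i = 1 from Pi.single_eq_same _ _, mul_one] at h1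
        exact h1
      · have h1 := m.2 (bs F i)
        rw [hm, map_smul', h.diag, (h.ok.aniso i hi).1, Int.cast_one, mul_one] at h1
        rw [(h.ok.aniso i hi).2]; exact h1
    refine ⟨d, hd, fun i hi => by simp [d, hS2 i hi, bs], Subtype.ext (LinearEquiv.toLinearMap_injective
      ((Pi.basisFun F ι).ext fun i => ?_))⟩
    rw [Pi.basisFun_apply]
    exact (hm i).trans (dg_bs h d hd i).symm
  by_cases hvc : (g : (ι → F) ≃ₗ[F] (ι → F)) (bs F c) c = 0
  · have hvP : (g : (ι → F) ≃ₗ[F] (ι → F)) (bs F c) (V.P c) ≠ 0 := fun e => by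
      have hz := aniso_zero h (v := (g : (ι → F) ≃ₗ[F] (ι → F)) (bs F c)) (by rw [g.2, h.sing_zero hc]) fun i hi => by
        rcases hall i hi with hiS | rfl | rfl
        · exact coord_zero h hS hSq hg (fun j hj => Pi.single_eq_of_ne (fun e => hcS (by rw [← e]; exact hj)) _) hiS
        · exact hvc
        · exact e
      have := congrFun ((g : (ι → F) ≃ₗ[F] (ι → F)).injective (hz.trans (map_zero _).symm)) c
      simp at this
    obtain ⟨k, hk, d, hd, hdS, e⟩ := main (sw h c hc * g) (hswS.mul hg) (by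
      show (g : (ι → F) ≃ₗ[F] (ι → F)) (bs F c) (Equiv.swap c (V.P c) c) ≠ 0
      rwa [Equiv.swap_apply_left])
    refine ⟨sw h c hc * k * (sw h c hc)⁻¹, conj_sw h hE hgen c hc hk, d, hd, hdS, Or.inr ?_⟩
    rw [← e, inv_eq_of_mul_eq_one_left (sw_mul_self h c hc)]
    simp [mul_assoc]
  · obtain ⟨k, hk, d, hd, hdS, e⟩ := main g hg hvc
    exact ⟨k, hk, d, hd, hdS, Or.inl e⟩

/-- `E` contains the commutator subgroup. -/
theorem commutator_le (h : Space V Q) (hE : Full h E) {D : ChevalleyDatum}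
    (hgen : E = Subgroup.closure {g | ∃ (r : ℕ) (t : F), r < D.nroots ∧ g = xV h r t}) {c a : ι} (hc : V.q c = 0)
    {S : Finset ι} (hcS : c ∉ S) (hS : ∀ i ∈ S, V.P i ∈ S) (hSq : ∀ i ∈ S, V.q i = 0) (haS : a ∈ S)
    (hred : ∀ g : orth Q, ∃ k ∈ E, Fixes (k * g) S)
    (hall : ∀ i, V.q i = 0 → i ∈ S ∨ i = c ∨ i = V.P c) :
    commutator (orth Q) ≤ E := by
  obtain ⟨hwc, hnec, hqPc⟩ := h.ok.sing c hc
  have hPcS : V.P c ∉ S := fun e => hcS (by have := hS _ e; rwa [h.ok.invol] at this)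
  have hdec : ∀ g : orth Q, ∃ k ∈ E, ∃ r ∈ Resid h c hc S, g = k * r := fun g => by
    obtain ⟨k₁, hk₁, hk₁g⟩ := hred g
    obtain ⟨k₂, hk₂, hr⟩ := resid h hE hgen hc hS hSq hcS hall hk₁g
    exact ⟨(k₂ * k₁)⁻¹, inv_mem (mul_mem hk₂ hk₁), _, hr, by group⟩
  haveI : E.Normal := ⟨fun x hx g => by
    obtain ⟨k, hk, r, ⟨d, hd, -, hr⟩, rfl⟩ := hdec g
    rw [show k * r * x * (k * r)⁻¹ = k * (r * x * r⁻¹) * k⁻¹ by group]
    refine mul_mem (mul_mem hk ?_) (inv_mem hk)
    rcases hr with rfl | rfl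
    · exact conj_dg h hE hgen d hd hx
    · rw [show sw h c hc * dg h d hd * x * (sw h c hc * dg h d hd)⁻¹ =
        sw h c hc * (dg h d hd * x * (dg h d hd)⁻¹) * (sw h c hc)⁻¹ by group]
      exact conj_sw h hE hgen c hc (conj_dg h hE hgen d hd hx)⟩
  let π := QuotientGroup.mk' E
  have hdd : ∀ d hd d' hd', π (dg h d hd) * π (dg h d' hd') = π (dg h d' hd') * π (dg h d hd) := fun d hd d' hd' => by
    rw [← map_mul, ← map_mul, dg_mul, dg_mul]
    exact congrArg π (dg_congr h (funext fun i => mul_comm _ _))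
  have hsd : ∀ d hd, (∀ i ∈ S, d i = 1) → π (sw h c hc) * π (dg h d hd) = π (dg h d hd) * π (sw h c hc) := by
    intro d hd hdS
    obtain ⟨hwa, hnea, hqPa⟩ := h.ok.sing a (hSq a haS)
    have hPaS := hS a haS
    have hca : c ≠ a := fun e => hcS (by rw [e]; exact haS)
    have hcPa : c ≠ V.P a := fun e => hcS (by rw [e]; exact hPaS)
    have hPca : V.P c ≠ a := fun e => hcPa (by rw [← e, h.ok.invol])
    have hPcPa : V.P c ≠ V.P a := fun e => hca (h.P_inj.1 e)
    have hx : d c ≠ 0 := fun e => one_ne_zero (α := F) (by rw [← hd c, e, zero_mul])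
    obtain ⟨d₁, hd₁, h1, h1a, h1c, h1o⟩ := two_torus_mem h hE (hSq a haS) hc hca hcPa hx
    obtain ⟨d₂, hd₂, h2, h2a, h2c, h2o⟩ := two_torus_mem h hE (hSq a haS) hqPc hPca hPcPa (inv_ne_zero hx)
    rw [inv_inv] at h2c
    rw [h.ok.invol] at h2o
    have invd : ∀ (e : ι → F) (he : ∀ i, e i * e (V.P i) = 1) (i : ι) (y : F), y ≠ 0 → e i = y → e (V.P i) = y⁻¹ :=
      fun e he i y hy hi => eq_inv_of_mul_eq_one_right (by rw [← hi]; exact he i)
    have e2c : d₂ c = (d c)⁻¹ := by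
      have := invd d₂ hd₂ (V.P c) _ hx h2c
      rwa [h.ok.invol] at this
    have e1Pc : d₁ (V.P c) = d c := by simpa using invd d₁ hd₁ c _ (inv_ne_zero hx) h1c
    have ePc : d (V.P c) = (d c)⁻¹ := invd d hd c _ hx rfl
    have key : sw h c hc * dg h d hd = dg h d₁ hd₁ * dg h d₂ hd₂ * (dg h d hd * sw h c hc) := by
      refine Subtype.ext (LinearEquiv.ext fun v => funext fun i => ?_)
      simp only [Subgroup.coe_mul, LinearEquiv.mul_apply, dg_apply]
      show d (Equiv.swap c (V.P c) i) * v (Equiv.swap c (V.P c) i) = d₁ i * (d₂ i * (d i * v (Equiv.swap c (V.P c) i)))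
      rcases eq_or_ne i c with rfl | h3
      · rw [Equiv.swap_apply_left, h1c, e2c, ePc]; field_simp
      rcases eq_or_ne i (V.P c) with rfl | h4
      · rw [Equiv.swap_apply_right, e1Pc, h2c, ePc]; field_simp
      rw [Equiv.swap_apply_of_ne_of_ne h3 h4]
      rcases eq_or_ne i a with rfl | h5
      · rw [h1a, h2a, hdS _ haS]; field_simp
      rcases eq_or_ne i (V.P a) with rfl | h6
      · rw [invd d₁ hd₁ a _ hx h1a, invd d₂ hd₂ a _ (inv_ne_zero hx) h2a, hdS _ hPaS]; field_simp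
      rw [h1o i h5 h6 h3 h4, h2o i h5 h6 h4 h3]; ring
    have hk : π (dg h d₁ hd₁ * dg h d₂ hd₂) = 1 := (QuotientGroup.eq_one_iff _).2 (mul_mem h1 h2)
    rw [← map_mul, key, map_mul, hk, one_mul, map_mul]
  have hRR : ∀ r ∈ Resid h c hc S, ∀ r' ∈ Resid h c hc S, π r * π r' = π r' * π r := by
    have hsR : ∀ r ∈ Resid h c hc S, π (sw h c hc) * π r = π r * π (sw h c hc) := by
      rintro r ⟨d, hd, hdS, rfl | rfl⟩
      · exact hsd d hd hdS
      · rw [map_mul, mul_assoc, hsd d hd hdS, ← mul_assoc, hsd d hd hdS]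
    have hdR : ∀ d hd, (∀ i ∈ S, d i = 1) → ∀ r ∈ Resid h c hc S, π (dg h d hd) * π r = π r * π (dg h d hd) := by
      rintro d hd hdS r ⟨d', hd', hdS', rfl | rfl⟩
      · exact hdd _ _ _ _
      · rw [map_mul, ← mul_assoc, ← hsd d hd hdS, mul_assoc, hdd, ← mul_assoc]
    rintro r ⟨d, hd, hdS, rfl | rfl⟩ r' hr'
    · exact hdR d hd hdS r' hr'
    · rw [map_mul, mul_assoc, hdR d hd hdS r' hr', ← mul_assoc, hsR r' hr', mul_assoc]
  rw [commutator_def, Subgroup.commutator_le]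
  intro x _ y _
  rw [← QuotientGroup.eq_one_iff]
  show π _ = 1
  rw [map_commutatorElement, commutatorElement_eq_one_iff_commute]
  have hsurj : ∀ g, ∃ r ∈ Resid h c hc S, π g = π r := fun g => by
    obtain ⟨k, hk, r, hr, rfl⟩ := hdec g
    exact ⟨r, hr, by rw [map_mul, show π k = 1 from (QuotientGroup.eq_one_iff _).2 hk, one_mul]⟩
  obtain ⟨r, hr, ex⟩ := hsurj x
  obtain ⟨r', hr', ey⟩ := hsurj y
  show _ * _ = _ * _
  rw [ex, ey, hRR r hr r' hr']

theorem full_of_table (h : Space V Q) {D : ChevalleyDatum}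
    (hgen : E = Subgroup.closure {g | ∃ (r : ℕ) (t : F), r < D.nroots ∧ g = xV h r t})
    (htab : ∀ a b, V.q a = 0 → V.P b ≠ a → b ≠ a → ∃ r < D.nroots,
      ((V.tri r).1 = a ∧ (V.tri r).2.1 = b ∨ V.q b = 0 ∧ (V.tri r).1 = b ∧ (V.tri r).2.1 = a) ∧
        ((V.tri r).2.2 = 1 ∨ (V.tri r).2.2 = -1)) :
    Full h E := by
  refine ⟨fun a b ha hb hab x => ?_⟩
  obtain ⟨r, hr, hcase, hsign⟩ := htab a b ha hb hab
  have hmem : ∀ t, xV h r t ∈ E := fun t => hgen ▸ Subgroup.subset_closure ⟨r, t, hr, rfl⟩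
  have hc2 : ((V.tri r).2.2 : F) * ((V.tri r).2.2 : F) = 1 := by rcases hsign with e | e <;> simp [e]
  rcases hcase with ⟨e1, e2⟩ | ⟨hqb, e1, e2⟩
  · have e : (⟨siegel Q (bs F a) (x • bs F b) (h.sing_zero ha) (h.perp hb x), siegel_mem_orth _ _ _ _ _⟩ : orth Q) =
        xV h r (((V.tri r).2.2 : F) * x) := by
      refine Subtype.ext (LinearEquiv.ext fun v => ?_)
      simp only [xV, ← mul_assoc, hc2, one_mul, e1, e2]
    rw [e]; exact hmem _
  · have e : (⟨siegel Q (bs F a) (x • bs F b) (h.sing_zero ha) (h.perp hb x), siegel_mem_orth _ _ _ _ _⟩ : orth Q) =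
        xV h r (((V.tri r).2.2 : F) * (-x)) := by
      refine Subtype.ext (LinearEquiv.ext fun v => ?_)
      simp only [xV, ← mul_assoc, hc2, one_mul, e1, e2, siegel_apply, map_smul', polar_smul_right',
        h.sing_zero hqb, h.sing_zero ha]
      module
    rw [e]; exact hmem _

/-- The group of the datum is isomorphic to the projective commutator group. -/
theorem chev_iso_pomega {D : ChevalleyDatum} {A : Aux} (g : Good D A) (θ : D.SteinbergCover F →* ↥(D.group F))
    (hθ : Function.Surjective θ) (hθk : θ.ker ≤ Subgroup.center (D.SteinbergCover F))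
    (hperf : commutator (D.SteinbergCover F) = ⊤) (hsimple : IsSimpleGroup ↥(D.group F))
    (h : Space V Q) {idx : List ι} (hidx : ∀ i, i ∈ idx) (hchk : V.chk D A idx = true) (hn : 0 < D.nroots)
    (hcomm : ∀ E : Subgroup (orth Q),
      E = Subgroup.closure {g | ∃ (r : ℕ) (t : F), r < D.nroots ∧ g = xV h r t} → commutator (orth Q) ≤ E)
    (hne : xV h 0 (1 : F) ≠ 1) :
    Nonempty (↥(D.group F) ≃* Cfsg.POmega F ⇑Q) := by
  set ψ := coverHom h g hidx hchk (F := F) with hψ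
  have hrange : ψ.range = Subgroup.closure {g | ∃ (r : ℕ) (t : F), r < D.nroots ∧ g = xV h r t} := by
    rw [MonoidHom.range_eq_map, ← PresentedGroup.closure_range_of, MonoidHom.map_closure]
    congr 1
    ext y
    constructor
    · rintro ⟨_, ⟨⟨r, t⟩, rfl⟩, rfl⟩
      refine ⟨r, t, r.2, ?_⟩
      show coverHom h g hidx hchk _ = _
      rw [coverHom, PresentedGroup.toGroup.of]
      rfl
    · rintro ⟨r, t, hr, rfl⟩
      refine ⟨_, ⟨(⟨r, hr⟩, t), rfl⟩, ?_⟩
      rw [hψ, coverHom, PresentedGroup.toGroup.of]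
      rfl
  have hr1 : ψ.range = commutator (orth Q) := by
    refine le_antisymm ?_ (hcomm _ hrange)
    rw [MonoidHom.range_eq_map, ← hperf, commutator_def, Subgroup.map_commutator]
    exact Subgroup.commutator_mono le_top le_top
  set e := (isomEquiv Q).symm
  have hO : Cfsg.Omega F ⇑Q = (commutator (orth Q)).map e.toMonoidHom := by
    rw [Cfsg.Omega, commutator_def, commutator_def, Subgroup.map_commutator,
      Subgroup.map_top_of_surjective _ e.surjective]
  have hmem : ∀ y, e (ψ y) ∈ Cfsg.Omega F ⇑Q := fun y => by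
    rw [hO]; exact ⟨ψ y, hr1 ▸ ⟨y, rfl⟩, rfl⟩
  let φ₀ : D.SteinbergCover F →* Cfsg.Omega F ⇑Q := (e.toMonoidHom.comp ψ).codRestrict _ hmem
  have hφ₀ : Function.Surjective φ₀ := by
    rintro ⟨z, hz⟩
    rw [hO] at hz
    obtain ⟨w, hw, rfl⟩ := hz
    rw [← hr1] at hw
    obtain ⟨y, rfl⟩ := hw
    exact ⟨y, rfl⟩
  let φ := (QuotientGroup.mk' (Subgroup.center (Cfsg.Omega F ⇑Q))).comp φ₀
  have hker : θ.ker ≤ φ.ker := fun z hz => by
    rw [MonoidHom.mem_ker, MonoidHom.comp_apply, QuotientGroup.mk'_apply, QuotientGroup.eq_one_iff,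
      Subgroup.mem_center_iff]
    intro w
    obtain ⟨y, rfl⟩ := hφ₀ w
    rw [← map_mul, ← map_mul, Subgroup.mem_center_iff.1 (hθk hz) y]
  let χ := θ.liftOfSurjective hθ ⟨φ, hker⟩
  have hχ : ∀ y, χ (θ y) = φ y := fun y => MonoidHom.liftOfRightInverse_comp_apply _ _ _ ⟨φ, hker⟩ y
  have hχs : Function.Surjective χ := fun z => by
    obtain ⟨w, rfl⟩ := QuotientGroup.mk'_surjective _ z
    obtain ⟨y, rfl⟩ := hφ₀ w
    exact ⟨θ y, hχ y⟩
  rcases hsimple.eq_bot_or_eq_top_of_normal χ.ker inferInstance with hk | hk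
  · exact ⟨MulEquiv.ofBijective χ ⟨(MonoidHom.ker_eq_bot_iff _).1 hk, hχs⟩⟩
  · exfalso
    have htriv : ∀ y, φ₀ y ∈ Subgroup.center (Cfsg.Omega F ⇑Q) := fun y => by
      have : χ (θ y) = 1 := MonoidHom.mem_ker.1 (hk ▸ Subgroup.mem_top _)
      rw [hχ] at this
      exact (QuotientGroup.eq_one_iff _).1 this
    have h1 : commutator (D.SteinbergCover F) ≤ φ₀.ker := by
      rw [commutator_def, Subgroup.commutator_le]
      intro a _ b _
      rw [MonoidHom.mem_ker, map_commutatorElement, commutatorElement_eq_one_iff_commute]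
      exact (Subgroup.mem_center_iff.1 (htriv a) (φ₀ b)).symm
    rw [hperf] at h1
    have h2 : φ₀ (D.scGen F 0 1) = 1 := h1 (Subgroup.mem_top _)
    have h3 : e (ψ (D.scGen F 0 1)) = 1 := congrArg Subtype.val h2
    rw [hψ, coverHom_gen h g hidx hchk hn] at h3
    exact hne (e.injective (by rw [h3, map_one]))

end CfsgLib.ChevIso
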