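import Cfsg.Agent.Lib.Steinberg.Presented
import Cfsg.Agent.Lib.Geometry.OmegaGen

/-! Steinberg's generators acting on an orthogonal space as Siegel transformations. -/

set_option autoImplicit false

namespace CfsgLib.ChevIso

open Cfsg.Lie QuadraticMap CfsgLib.Chev CfsgLib.Geometry

/-- The combinatorics of a split orthogonal space and a table assigning Siegel transformations to roots. -/
structure VData (ι : Type) where
  P : ι → ι
  w : ι → ℤ
  q : ι → ℤ
  tri : ℕ → ι × ι × ℤ

namespace VData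

variable {ι : Type} (V : VData ι)

/-- Basic requirements. -/
structure OK : Prop where
  invol : ∀ i, V.P (V.P i) = i
  sing : ∀ i, V.q i = 0 → V.w i = 1 ∧ V.P i ≠ i ∧ V.q (V.P i) = 0
  aniso : ∀ i, V.q i ≠ 0 → V.q i = 1 ∧ V.P i = i
  one : ∀ i j, V.q i ≠ 0 → V.q j ≠ 0 → i = j
  tri_sing : ∀ r, V.q (V.tri r).1 = 0
  tri_perp : ∀ r, V.P (V.tri r).2.1 ≠ (V.tri r).1

/-- The non-trivial matrix entries of a root element. -/
def ent (r : ℕ) : List (ι × ι × ℤ × ℕ) :=
  let a := (V.tri r).1
  let b := (V.tri r).2.1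
  let c := (V.tri r).2.2
  [(b, V.P a, c, 1), (a, V.P b, -(c * V.w b), 1), (a, V.P a, -(V.q b * (c * c)), 2)]

variable [DecidableEq ι]

/-- Applying `x_r (m t^i u^j)`. -/
def app1 (r : ℕ) (m : ℤ) (i j : ℕ) (v : List ((ι × ℕ × ℕ) × ℤ)) : List ((ι × ℕ × ℕ) × ℤ) :=
  scompact (v.flatMap fun p => p :: ((V.ent r).filter fun e => decide (e.2.1 = p.1.1)).map fun e =>
    ((e.1, p.1.2.1 + e.2.2.2 * i, p.1.2.2 + e.2.2.2 * j), p.2 * (e.2.2.1 * m ^ e.2.2.2)))

/-- Applying a word. -/
def appW : List (ℕ × ℤ × ℕ × ℕ) → List ((ι × ℕ × ℕ) × ℤ) → List ((ι × ℕ × ℕ) × ℤ)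
  | [], v => v
  | (r, m, i, j) :: l, v => V.app1 r m i j (appW l v)

/-- The check of the commutator formula. -/
noncomputable def chk (D : ChevalleyDatum) (A : Aux) (idx : List ι) : Bool :=
  (List.range D.nroots).all fun r => (List.range D.nroots).all fun s =>
    s == r || s == A.neg r ||
      ((A.terms r s).all fun k => decide (k.1 < D.nroots)) &&
      idx.all fun b => seq'
        (V.appW [(s, 1, 0, 1), (r, 1, 1, 0)] [((b, 0, 0), 1)])
        (V.appW ((r, 1, 1, 0) :: (s, 1, 0, 1) ::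
          (A.terms r s).map fun k => (k.1, k.2.1 * (-1) ^ k.2.2.1, k.2.2.1, k.2.2.2)) [((b, 0, 0), 1)])

end VData

variable {ι : Type} [Fintype ι] [DecidableEq ι] {F : Type*} [Field F] {V : VData ι}

/-- A quadratic form with the prescribed tables. -/
structure Space (V : VData ι) (Q : QuadraticForm F (ι → F)) : Prop where
  ok : V.OK
  pol : ∀ v i, polar Q v (Pi.single i 1) = (V.w i : F) * v (V.P i)
  diag : ∀ i, Q (Pi.single i 1) = (V.q i : F)
  tor : ∀ d : ι → F, (∀ i, d i * d (V.P i) = 1) → ∀ v, Q (fun i => d i * v i) = Q v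
  swap : ∀ i, V.q i = 0 → ∀ v : ι → F, Q (fun j => v (Equiv.swap i (V.P i) j)) = Q v

variable {Q : QuadraticForm F (ι → F)}

/-- A basis vector. -/
abbrev bs (F : Type*) [Field F] {ι : Type} [DecidableEq ι] (i : ι) : ι → F := Pi.single i 1

theorem Space.sing_zero (h : Space V Q) {a : ι} (ha : V.q a = 0) : Q (bs F a) = 0 := by
  rw [h.diag, ha, Int.cast_zero]

theorem Space.perp (h : Space V Q) {a b : ι} (hb : V.P b ≠ a) (x : F) : polar Q (bs F a) (x • bs F b) = 0 := by
  rw [polar_smul_right', h.pol]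
  simp [hb]

/-- The value of a root element. -/
noncomputable def xV (h : Space V Q) (r : ℕ) (t : F) : orth Q :=
  ⟨siegel Q (bs F (V.tri r).1) ((((V.tri r).2.2 : F) * t) • bs F (V.tri r).2.1) (h.sing_zero (h.ok.tri_sing r))
      (h.perp (h.ok.tri_perp r) _), siegel_mem_orth _ _ _ _ _⟩

theorem xV_add (h : Space V Q) (r : ℕ) (t u : F) : xV h r t * xV h r u = xV h r (t + u) := by
  refine Subtype.ext ?_
  simp only [xV, Subgroup.coe_mul]
  rw [siegel_mul]
  congr 1
  rw [← add_smul, mul_add]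

theorem xV_apply (h : Space V Q) (r : ℕ) (t : F) (v : ι → F) :
    (xV h r t : (ι → F) ≃ₗ[F] (ι → F)) v =
      v + ((V.ent r).map fun e => ((e.2.2.1 : F) * t ^ e.2.2.2 * v e.2.1) • bs F e.1).sum := by
  simp only [xV]
  rw [siegel_apply, polar_smul_right', h.pol, h.pol, map_smul', h.diag, (h.ok.sing _ (h.ok.tri_sing r)).1]
  simp only [VData.ent, List.map_cons, List.map_nil, List.sum_cons, List.sum_nil, Int.cast_neg, Int.cast_mul,
    Int.cast_one, pow_one, smul_smul, add_zero]
  match_scalars <;> ring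

/-- Values of sparse vectors with polynomial coefficients. -/
def gval (t u : F) (p : ι × ℕ × ℕ) : ι → F := (t ^ p.2.1 * u ^ p.2.2) • bs F p.1

theorem app1_spec (h : Space V Q) (r : ℕ) (m : ℤ) (i j : ℕ) (t u : F) (v : List ((ι × ℕ × ℕ) × ℤ)) :
    (xV h r ((m : F) * t ^ i * u ^ j) : (ι → F) ≃ₗ[F] (ι → F)) (sval (gval t u) v) =
      sval (gval t u) (V.app1 r m i j v) := by
  rw [VData.app1, sval_scompact]
  induction v with
  | nil => simp [sval]
  | cons p v ih =>
    rw [List.flatMap_cons, sval_append, sval_cons, map_add, ih, map_zsmul, xV_apply, sval_cons]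
    congr 1
    rw [smul_add]
    congr 1
    have key : ∀ L : List (ι × ι × ℤ × ℕ),
        p.2 • (L.map fun e => ((e.2.2.1 : F) * ((m : F) * t ^ i * u ^ j) ^ e.2.2.2 * gval t u p.1 e.2.1) • bs F e.1).sum =
          sval (gval t u) ((L.filter fun e => decide (e.2.1 = p.1.1)).map fun e =>
            ((e.1, p.1.2.1 + e.2.2.2 * i, p.1.2.2 + e.2.2.2 * j), p.2 * (e.2.2.1 * m ^ e.2.2.2))) := by
      intro L
      induction L with
      | nil => simp [sval]
      | cons e L ihL =>
        rw [List.map_cons, List.sum_cons, smul_add, ihL, List.filter_cons]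
        by_cases he : e.2.1 = p.1.1
        · simp only [he, decide_true, if_true, List.map_cons, sval_cons]
          congr 1
          simp only [gval, ← Int.cast_smul_eq_zsmul F, smul_smul, Pi.smul_apply, Pi.single_eq_same, smul_eq_mul]
          congr 1
          push_cast
          ring
        · simp [he, gval, Pi.single_eq_of_ne he]
    exact key _

/-- A word of root elements. -/
noncomputable def wordV (h : Space V Q) (t u : F) (l : List (ℕ × ℤ × ℕ × ℕ)) : orth Q :=
  (l.map fun p => xV h p.1 ((p.2.1 : F) * t ^ p.2.2.1 * u ^ p.2.2.2)).prod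

theorem appW_spec (h : Space V Q) (t u : F) (l : List (ℕ × ℤ × ℕ × ℕ)) (v : List ((ι × ℕ × ℕ) × ℤ)) :
    (wordV h t u l : (ι → F) ≃ₗ[F] (ι → F)) (sval (gval t u) v) = sval (gval t u) (V.appW l v) := by
  induction l with
  | nil => simp [wordV, VData.appW]
  | cons p l ih =>
    obtain ⟨r, m, i, j⟩ := p
    rw [wordV, List.map_cons, List.prod_cons, Subgroup.coe_mul, LinearEquiv.mul_apply,
      show ((List.map _ l).prod : orth Q) = wordV h t u l from rfl, ih, app1_spec]
    rfl

theorem word_eq (h : Space V Q) {idx : List ι} (hidx : ∀ i, i ∈ idx) (t u : F) {l l' : List (ℕ × ℤ × ℕ × ℕ)}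
    (hl : (idx.all fun b => seq' (V.appW l [((b, 0, 0), 1)]) (V.appW l' [((b, 0, 0), 1)])) = true) :
    wordV h t u l = wordV h t u l' := by
  refine Subtype.ext (LinearEquiv.toLinearMap_injective ((Pi.basisFun F ι).ext fun b => ?_))
  have hb := sval_eq_of_seq (gval t u) (List.all_eq_true.1 hl b (hidx b))
  rw [← appW_spec h, ← appW_spec h] at hb
  simpa [sval, gval, Pi.basisFun_apply] using hb

variable {D : ChevalleyDatum} {A : Aux}

theorem comm_aux (h : Space V Q) {idx : List ι} (hidx : ∀ i, i ∈ idx) (t u : F) (r s : ℕ)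
    (L : List (ℕ × ℤ × ℕ × ℕ))
    (he : (idx.all fun b => seq' (V.appW [(s, 1, 0, 1), (r, 1, 1, 0)] [((b, 0, 0), 1)])
      (V.appW ((r, 1, 1, 0) :: (s, 1, 0, 1) ::
        L.map fun k => (k.1, k.2.1 * (-1) ^ k.2.2.1, k.2.2.1, k.2.2.2)) [((b, 0, 0), 1)])) = true) :
    xV h s u * xV h r t = xV h r t * xV h s u *
      (L.map fun k => xV h k.1 ((k.2.1 : F) * (-t) ^ k.2.2.1 * u ^ k.2.2.2)).prod := by
  have := word_eq h hidx t u he
  simp only [wordV, List.map_cons, List.map_nil, List.prod_cons, List.prod_nil, mul_one, Int.cast_one,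
    pow_zero, pow_one, one_mul, List.map_map, Function.comp_def] at this
  rw [this, mul_assoc]
  congr 3
  refine List.map_congr_left fun k _ => ?_
  congr 1
  push_cast
  rw [neg_pow t]; ring

theorem comm_V (h : Space V Q) (g : Good D A) {idx : List ι} (hidx : ∀ i, i ∈ idx) (hc : V.chk D A idx = true)
    {r s : ℕ} (hr : r < D.nroots) (hs : s < D.nroots) (hsr : s ≠ r) (hsn : s ≠ D.neg r) (t u : F) :
    xV h s u * xV h r t = xV h r t * xV h s u * ((D.commWord F r s t u).map fun p => xV h p.1 p.2).prod ∧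
      ∀ p ∈ D.commWord F r s t u, p.1 < D.nroots := by
  have h1 := List.all_eq_true.1 hc r (List.mem_range.2 hr)
  have h2 := List.all_eq_true.1 h1 s (List.mem_range.2 hs)
  have e1 : (s == r) = false := beq_false_of_ne hsr
  have e2 : (s == A.neg r) = false := beq_false_of_ne (by rwa [← g.neg_eq r hr])
  rw [e1, e2, Bool.false_or, Bool.false_or, Bool.and_eq_true] at h2
  obtain ⟨hk', he⟩ := h2
  have hk := fun k hk => of_decide_eq_true (List.all_eq_true.1 hk' k hk)
  refine ⟨?_, fun p hp => ?_⟩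
  · rw [comm_aux h hidx t u r s (A.terms r s) he, ChevalleyDatum.commWord, commTerms_eq g hr hs, List.map_map,
      Function.comp_def]
  · rw [ChevalleyDatum.commWord, commTerms_eq g hr hs, List.mem_map] at hp
    obtain ⟨k, hk', rfl⟩ := hp
    exact hk k hk'

/-- The generators' values. -/
noncomputable def vF (h : Space V Q) (p : Fin D.nroots × F) : orth Q := xV h p.1 p.2

theorem lift_stX (h : Space V Q) {r : ℕ} (hr : r < D.nroots) (t : F) :
    FreeGroup.lift (vF (D := D) h) (D.stX r t) = xV h r t := by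
  unfold ChevalleyDatum.stX
  rw [dif_pos hr]
  simp [vF]

theorem rels_V (h : Space V Q) (g : Good D A) {idx : List ι} (hidx : ∀ i, i ∈ idx) (hc : V.chk D A idx = true) :
    ∀ y ∈ D.steinbergRelsAB F, FreeGroup.lift (vF (D := D) h) y = 1 := by
  rintro y (⟨r, t₁, t₂, hr, rfl⟩ | ⟨r, s, t, u, hr, hs, hsr, hsn, rfl⟩)
  · simp [lift_stX h hr, xV_add]
  · obtain ⟨he, hk⟩ := comm_V h g hidx hc hr hs hsr hsn t u
    have hw : FreeGroup.lift (vF (D := D) h) (D.stWord (D.commWord F r s t u)) =
        ((D.commWord F r s t u).map fun p => xV h p.1 p.2).prod := by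
      rw [ChevalleyDatum.stWord, map_list_prod, List.map_map]
      exact congrArg List.prod (List.map_congr_left fun p hp => lift_stX h (hk p hp) p.2)
    rw [map_mul, map_mul, map_mul, map_mul, map_inv, map_inv, map_inv, lift_stX h hr, lift_stX h hs, hw,
      mul_inv_eq_one, mul_assoc, he]
    group

/-- The homomorphism from the cover. -/
noncomputable def coverHom (h : Space V Q) (g : Good D A) {idx : List ι} (hidx : ∀ i, i ∈ idx)
    (hc : V.chk D A idx = true) : D.SteinbergCover F →* orth Q :=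
  PresentedGroup.toGroup (f := vF (D := D) h) (rels_V h g hidx hc)

theorem coverHom_gen (h : Space V Q) (g : Good D A) {idx : List ι} (hidx : ∀ i, i ∈ idx)
    (hc : V.chk D A idx = true) {r : ℕ} (hr : r < D.nroots) (t : F) :
    coverHom h g hidx hc (D.scGen F r t) = xV h r t := lift_stX h hr t

end CfsgLib.ChevIso
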