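import Cfsg.Agent.Lib.ChevIso.Rep

/-! The root elements generate the commutator subgroup of the orthogonal group, over any field. -/

set_option autoImplicit false

namespace CfsgLib.ChevIso

open QuadraticMap CfsgLib.Geometry

variable {ι : Type} [Fintype ι] [DecidableEq ι] {F : Type*} [Field F] {V : VData ι}
  {Q : QuadraticForm F (ι → F)} {E : Subgroup (orth Q)}

theorem Space.polar_bs_left (h : Space V Q) (v : ι → F) (i : ι) :
    polar Q (bs F i) v = (V.w i : F) * v (V.P i) := by rw [polar_comm, h.pol]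

theorem Space.P_inj (h : Space V Q) {i j : ι} : V.P i = V.P j ↔ i = j :=
  ⟨fun e => by rw [← h.ok.invol i, e, h.ok.invol], fun e => e ▸ rfl⟩

theorem siegel_ext {e w w' : ι → F} {he : Q e = 0} {hw : polar Q e w = 0} {hw' : polar Q e w' = 0} (e' : w = w') :
    siegel Q e w he hw = siegel Q e w' he hw' := by subst e'; rfl

/-- `E` has the root elements attached to all admissible pairs of basis vectors. -/
structure Full (h : Space V Q) (E : Subgroup (orth Q)) : Prop where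
  mem : ∀ a b (ha : V.q a = 0) (hb : V.P b ≠ a), b ≠ a → ∀ x : F,
    (⟨siegel Q (bs F a) (x • bs F b) (h.sing_zero ha) (h.perp hb x), siegel_mem_orth _ _ _ _ _⟩ : orth Q) ∈ E

/-- Basis Siegel elements with arbitrary perpendicular vector. -/
theorem Full.mem_vec {h : Space V Q} (hE : Full h E) {a : ι} (ha : V.q a = 0) (w : ι → F)
    (hw : polar Q (bs F a) w = 0) :
    (⟨siegel Q (bs F a) w (h.sing_zero ha) hw, siegel_mem_orth _ _ _ _ _⟩ : orth Q) ∈ E := by
  let T : Set (ι → F) := {w | ∃ hw : polar Q (bs F a) w = 0,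
    (⟨siegel Q (bs F a) w (h.sing_zero ha) hw, siegel_mem_orth _ _ _ _ _⟩ : orth Q) ∈ E}
  have zero : (0 : ι → F) ∈ T := by
    refine ⟨polar_zero_right _ _, ?_⟩
    rw [show (⟨siegel Q (bs F a) 0 _ _, _⟩ : orth Q) = 1 from Subtype.ext (LinearEquiv.ext fun v =>
      siegelMap_zero Q _ v)]
    exact one_mem _
  have add : ∀ u v : ι → F, u ∈ T → v ∈ T → u + v ∈ T := by
    rintro u v ⟨hu, hu'⟩ ⟨hv, hv'⟩
    refine ⟨by rw [polar_add_right, hu, hv, add_zero], ?_⟩
    convert mul_mem hu' hv' using 1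
    exact Subtype.ext (siegel_mul (bs F a) u v (h.sing_zero ha) hu hv).symm
  have hw0 : w (V.P a) = 0 := by
    rw [h.polar_bs_left, (h.ok.sing a ha).1, Int.cast_one, one_mul] at hw
    exact hw
  have hT : w ∈ T := by
    have e : w = ∑ i, w i • bs F i := by
      funext j
      simp [Finset.sum_apply, Pi.single_apply]
    rw [e]
    refine Finset.sum_induction _ (· ∈ T) add zero fun i _ => ?_
    rcases eq_or_ne i (V.P a) with rfl | hi
    · rw [hw0, zero_smul]; exact zero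
    have hb : V.P i ≠ a := fun e => hi (by rw [← e, h.ok.invol])
    rcases eq_or_ne i a with rfl | hia
    · refine ⟨h.perp hb _, ?_⟩
      rw [show (⟨siegel Q (bs F i) (w i • bs F i) _ _, _⟩ : orth Q) = 1 from
        Subtype.ext (LinearEquiv.ext fun v => by
          rw [siegel_apply, map_smul', h.sing_zero ha, polar_smul_right']
          show _ = v
          module)]
      exact one_mem _
    exact ⟨h.perp hb _, hE.mem a i ha hb hia _⟩
  exact hT.2

/-- `g` fixes the basis vectors of `S`. -/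
def Fixes (g : orth Q) (S : Finset ι) : Prop := ∀ i ∈ S, (g : (ι → F) ≃ₗ[F] (ι → F)) (bs F i) = bs F i

theorem Fixes.mul {g g' : orth Q} {S : Finset ι} (hg : Fixes g S) (hg' : Fixes g' S) : Fixes (g * g') S :=
  fun i hi => by rw [Subgroup.coe_mul, LinearEquiv.mul_apply, hg' i hi, hg i hi]

/-- A Siegel element in `bs a` with vector supported off `S` fixes `S`. -/
theorem fixes_siegel (h : Space V Q) {a : ι} {S : Finset ι} (hS : ∀ i ∈ S, V.P i ∈ S) (haS : a ∉ S)
    (ha : V.q a = 0) {w : ι → F} (hw : polar Q (bs F a) w = 0) (hwS : ∀ i ∈ S, w i = 0) :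
    Fixes (⟨siegel Q (bs F a) w (h.sing_zero ha) hw, siegel_mem_orth _ _ _ _ _⟩ : orth Q) S := fun i hi => by
  refine siegel_eq_self Q _ _ (h.sing_zero ha) hw ?_ ?_
  · rw [h.pol, show bs F i (V.P a) = 0 from Pi.single_eq_of_ne (fun e : V.P a = i => haS (by rw [← h.ok.invol a, e]; exact hS i hi)) _, mul_zero]
  · rw [polar_comm, h.pol, hwS _ (hS i hi), mul_zero]

theorem coord_zero (h : Space V Q) {g : orth Q} {S : Finset ι} (hS : ∀ i ∈ S, V.P i ∈ S)
    (hSq : ∀ i ∈ S, V.q i = 0) (hg : Fixes g S) {u : ι → F} (hu : ∀ i ∈ S, u i = 0) {i : ι} (hi : i ∈ S) :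
    (g : (ι → F) ≃ₗ[F] (ι → F)) u i = 0 := by
  have := h.pol ((g : (ι → F) ≃ₗ[F] (ι → F)) u) (V.P i)
  rw [h.ok.invol, (h.ok.sing _ (hSq _ (hS i hi))).1, Int.cast_one, one_mul] at this
  conv_rhs at this => skip
  rw [← this]
  show polar Q _ (bs F (V.P i)) = 0
  rw [← hg _ (hS i hi), orth_polar g.2, h.pol, h.ok.invol, hu i hi, mul_zero]

theorem norm_split (h : Space V Q) {a : ι} (ha : V.q a = 0) {α β : F} {w : ι → F} (hwa : w a = 0)
    (hwPa : w (V.P a) = 0) :
    Q (α • bs F a + β • bs F (V.P a) + w) = α * β + Q w := by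
  obtain ⟨hw1, -, hqP⟩ := h.ok.sing a ha
  rw [map_add', map_add', map_smul', map_smul', h.sing_zero ha, h.sing_zero hqP, polar_add_left, polar_smul_left',
    polar_smul_left', polar_smul_left', polar_smul_right', h.polar_bs_left, h.polar_bs_left, h.polar_bs_left,
    hw1, (h.ok.sing _ hqP).1, h.ok.invol, hwa, hwPa]
  simp [bs]

theorem decomp (h : Space V Q) {a : ι} (ha : V.q a = 0) (v : ι → F) :
    ∃ w : ι → F, v = v a • bs F a + v (V.P a) • bs F (V.P a) + w ∧ w a = 0 ∧ w (V.P a) = 0 ∧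
      ∀ i, i ≠ a → i ≠ V.P a → w i = v i := by
  have hne := (h.ok.sing a ha).2.1
  refine ⟨v - v a • bs F a - v (V.P a) • bs F (V.P a), by abel, ?_, ?_, fun i h1 h2 => ?_⟩
  · simp [hne, Ne.symm hne]
  · simp [hne, Ne.symm hne]
  · simp [h1, h2]

/-- Clearing with a Siegel element of the partner. -/
theorem clear_first (h : Space V Q) (hE : Full h E) {a : ι} (ha : V.q a = 0) {S : Finset ι}
    (hS : ∀ i ∈ S, V.P i ∈ S) (haS : a ∉ S) {v : ι → F} (hv : Q v = 0) (hva : v a ≠ 0)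
    (hvS : ∀ i ∈ S, v i = 0) :
    ∃ k ∈ E, Fixes k S ∧ (k : (ι → F) ≃ₗ[F] (ι → F)) v = v a • bs F a := by
  obtain ⟨hw1, hne, hqP⟩ := h.ok.sing a ha
  obtain ⟨w, hvw, hwa, hwPa, hwi⟩ := decomp h ha v
  have hPaS : V.P a ∉ S := fun e => haS (by have := hS _ e; rwa [h.ok.invol] at this)
  have hQ : v a * v (V.P a) + Q w = 0 := by rw [← norm_split h ha hwa hwPa, ← hvw, hv]
  set w' := -((v a)⁻¹ • w) with hw'
  have hp : polar Q (bs F (V.P a)) w' = 0 := by
    rw [h.polar_bs_left, h.ok.invol, hw']; simp [hwa]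
  refine ⟨_, hE.mem_vec hqP w' hp, fixes_siegel h hS hPaS hqP hp fun i hi => ?_, ?_⟩
  · rw [hw', Pi.neg_apply, Pi.smul_apply, hwi i (fun e => haS (e ▸ hi)) (fun e => hPaS (e ▸ hi)), hvS i hi]
    simp
  · have e1 : polar Q v (bs F (V.P a)) = v a := by
      rw [h.pol, (h.ok.sing _ hqP).1, h.ok.invol, Int.cast_one, one_mul]
    have e2 : polar Q v w = 2 * Q w := by
      conv_lhs => rw [hvw]
      rw [polar_add_left, polar_add_left, polar_smul_left', polar_smul_left', h.polar_bs_left, h.polar_bs_left,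
        h.ok.invol, hwa, hwPa, polar_self']
      ring
    refine (siegel_apply Q _ _ (h.sing_zero hqP) hp _).trans ?_
    rw [hw', polar_neg_right, polar_smul_right', QuadraticMap.map_neg, map_smul', e1, e2]
    nth_rewrite 1 [hvw]
    match_scalars <;> first | ring1 | (field_simp; ring1) | (field_simp; linear_combination hQ)

/-- Normalising the image of a singular basis vector pair. -/
theorem clear_pair (h : Space V Q) (hE : Full h E) {a : ι} (ha : V.q a = 0) {S : Finset ι}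
    (hS : ∀ i ∈ S, V.P i ∈ S) (hSq : ∀ i ∈ S, V.q i = 0) (haS : a ∉ S) {g : orth Q} (hg : Fixes g S)
    {c : F} (hc : c ≠ 0) (hga : (g : (ι → F) ≃ₗ[F] (ι → F)) (bs F a) = c • bs F a) :
    ∃ k ∈ E, Fixes (k * g) S ∧ ((k * g : orth Q) : (ι → F) ≃ₗ[F] (ι → F)) (bs F a) = c • bs F a ∧
      ((k * g : orth Q) : (ι → F) ≃ₗ[F] (ι → F)) (bs F (V.P a)) = c⁻¹ • bs F (V.P a) := by
  obtain ⟨hw1, hne, hqP⟩ := h.ok.sing a ha
  have hPaS : V.P a ∉ S := fun e => haS (by have := hS _ e; rwa [h.ok.invol] at this)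
  set v := (g : (ι → F) ≃ₗ[F] (ι → F)) (bs F (V.P a)) with hvdef
  have hv : Q v = 0 := by rw [hvdef, g.2, h.sing_zero hqP]
  have hvP : v (V.P a) = c⁻¹ := by
    have := orth_polar g.2 (bs F (V.P a)) (bs F a)
    rw [← hvdef, hga, polar_smul_right', h.pol, h.pol, hw1, Int.cast_one, one_mul, one_mul,
      show bs F (V.P a) (V.P a) = 1 from Pi.single_eq_same _ _] at this
    exact eq_inv_of_mul_eq_one_right this
  have hvS : ∀ i ∈ S, v i = 0 := fun i hi =>
    coord_zero h hS hSq hg (fun j hj => Pi.single_eq_of_ne (fun e => hPaS (by rw [← e]; exact hj)) _) hi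
  obtain ⟨k, hk, hkS, hkv⟩ := clear_first h hE hqP hS hPaS hv (by rw [hvP]; exact inv_ne_zero hc) hvS
  obtain ⟨w, -, hwa, hwPa, -⟩ := decomp h ha v
  -- the same element fixes `bs a`
  obtain ⟨u, huv, hua, huPa, hui⟩ := decomp h hqP v
  rw [h.ok.invol] at huv huPa hui
  set u' := -(c • u) with hu'
  have hp : polar Q (bs F a) u' = 0 := by rw [h.polar_bs_left, hu']; simp [hua]
  refine ⟨⟨siegel Q (bs F a) u' (h.sing_zero ha) hp, siegel_mem_orth _ _ _ _ _⟩, hE.mem_vec ha u' hp, ?_, ?_, ?_⟩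
  · refine (fixes_siegel h hS haS ha hp fun i hi => ?_).mul hg
    rw [hu', Pi.neg_apply, Pi.smul_apply, hui i (fun e => hPaS (e ▸ hi)) (fun e => haS (e ▸ hi)), hvS i hi]
    simp
  · rw [Subgroup.coe_mul, LinearEquiv.mul_apply, hga, map_smul]
    congr 1
    refine siegel_eq_self Q _ _ (h.sing_zero ha) hp ?_ ?_
    · rw [h.pol, show bs F a (V.P a) = 0 from Pi.single_eq_of_ne hne _, mul_zero]
    · rw [h.polar_bs_left, hu']; simp [hua]
  · have hQ : c⁻¹ * v a + Q u = 0 := by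
      have := norm_split h hqP (α := v (V.P a)) (β := v a) hua (by rw [h.ok.invol]; exact huPa)
      rw [h.ok.invol, ← huv, hv, hvP] at this
      exact this.symm
    have e1 : polar Q v (bs F a) = c⁻¹ := by rw [h.pol, hw1, hvP, Int.cast_one, one_mul]
    have e2 : polar Q v u = 2 * Q u := by
      conv_lhs => rw [huv]
      rw [polar_add_left, polar_add_left, polar_smul_left', polar_smul_left', h.polar_bs_left, h.polar_bs_left,
        h.ok.invol, hua, huPa, polar_self']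
      ring
    rw [Subgroup.coe_mul, LinearEquiv.mul_apply, ← hvdef]
    refine (siegel_apply Q _ _ (h.sing_zero ha) hp _).trans ?_
    rw [hu', polar_neg_right, polar_smul_right', QuadraticMap.map_neg, map_smul', e1, e2]
    nth_rewrite 1 [huv]
    rw [hvP]
    field_simp at hQ
    match_scalars <;> first | ring1 | (field_simp; ring1) | (field_simp; linear_combination hQ)

/-- One step of the reduction: fixing one more pair. -/
theorem step (h : Space V Q) (hE : Full h E) {a c : ι} (ha : V.q a = 0) (hc : V.q c = 0) {S : Finset ι}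
    (hS : ∀ i ∈ S, V.P i ∈ S) (hSq : ∀ i ∈ S, V.q i = 0) (haS : a ∉ S) (hcS : c ∉ S) (hca : c ≠ a)
    (hcPa : c ≠ V.P a) {g : orth Q} (hg : Fixes g S) :
    ∃ k ∈ E, Fixes (k * g) (insert a (insert (V.P a) S)) := by
  classical
  obtain ⟨hw1, hne, hqP⟩ := h.ok.sing a ha
  obtain ⟨hwc, hnec, hqPc⟩ := h.ok.sing c hc
  have hPaS : V.P a ∉ S := fun e => haS (by have := hS _ e; rwa [h.ok.invol] at this)
  have hPcS : V.P c ∉ S := fun e => hcS (by have := hS _ e; rwa [h.ok.invol] at this)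
  have hPcPa : V.P c ≠ V.P a := fun e => hca (h.P_inj.1 e)
  have hPca : V.P c ≠ a := fun e => hcPa (by rw [← e, h.ok.invol])
  let good : (ι → F) → Prop := fun v => Q v = 0 ∧ ∀ i ∈ S, v i = 0
  have move : ∀ v, good v → ∀ k : orth Q, Fixes k S → good ((k : (ι → F) ≃ₗ[F] (ι → F)) v) :=
    fun v hv k hk => ⟨by rw [k.2, hv.1], fun i hi => coord_zero h hS hSq hk hv.2 hi⟩
  set v₀ := (g : (ι → F) ≃ₗ[F] (ι → F)) (bs F a)
  have hv₀ : good v₀ := ⟨by rw [g.2, h.sing_zero ha],
    fun i hi => coord_zero h hS hSq hg (fun j hj => Pi.single_eq_of_ne (fun e => haS (by rw [← e]; exact hj)) _) hi⟩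
  -- some auxiliary coordinate
  obtain ⟨k₁, hk₁, hk₁S, d, hd, hdS, hda, hdPa, hvd⟩ : ∃ k ∈ E, Fixes k S ∧ ∃ d, V.q d = 0 ∧ d ∉ S ∧ d ≠ a ∧
      d ≠ V.P a ∧ (k : (ι → F) ≃ₗ[F] (ι → F)) v₀ (V.P d) ≠ 0 := by
    by_cases hex : ∃ d, V.q d = 0 ∧ d ∉ S ∧ d ≠ a ∧ d ≠ V.P a ∧ v₀ (V.P d) ≠ 0
    · obtain ⟨d, hd⟩ := hex
      exact ⟨1, one_mem _, fun i _ => rfl, d, hd.1, hd.2.1, hd.2.2.1, hd.2.2.2.1, hd.2.2.2.2⟩
    push Not at hex
    have hsupp : ∀ i, V.q i = 0 → i ≠ a → i ≠ V.P a → v₀ i = 0 := fun i hi h1 h2 => by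
      by_cases hiS : i ∈ S
      · exact hv₀.2 i hiS
      · have hiS' : V.P i ∉ S := fun e => hiS (by have := hS _ e; rwa [h.ok.invol] at this)
        have := hex (V.P i) (h.ok.sing i hi).2.2 hiS' (fun e => h2 (by rw [← e, h.ok.invol])) (fun e => h1 (h.P_inj.1 e))
        rwa [h.ok.invol] at this
    have hor : v₀ a ≠ 0 ∨ v₀ (V.P a) ≠ 0 := by
      by_contra hcon
      push Not at hcon
      have hall : ∀ i, V.q i = 0 → v₀ i = 0 := fun i hi => by
        rcases eq_or_ne i a with rfl | h1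
        · exact hcon.1
        rcases eq_or_ne i (V.P a) with rfl | h2
        · exact hcon.2
        exact hsupp i hi h1 h2
      have hv0 : v₀ = 0 := by
        by_contra hv0
        obtain ⟨i, hi⟩ : ∃ i, v₀ i ≠ 0 := by
          by_contra h'; push Not at h'; exact hv0 (funext h')
        have hqi : V.q i ≠ 0 := fun e => hi (hall i e)
        have : v₀ = v₀ i • bs F i := funext fun j => by
          rcases eq_or_ne j i with rfl | hj
          · simp
          · rw [Pi.smul_apply, bs, Pi.single_eq_of_ne hj, smul_zero]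
            by_contra hne'
            exact hj (h.ok.one j i (fun e => hne' (hall j e)) hqi)
        have hQ := hv₀.1
        rw [this, map_smul', h.diag, (h.ok.aniso i hqi).1, Int.cast_one, mul_one] at hQ
        exact hi (mul_self_eq_zero.1 hQ)
      have : bs F a = 0 := (g : (ι → F) ≃ₗ[F] (ι → F)).injective (by rw [map_zero]; exact hv0)
      simpa using congrFun this a
    have pick : ∀ e, V.q e = 0 → e = a ∨ e = V.P a → v₀ (V.P e) ≠ 0 →
        ∃ k ∈ E, Fixes k S ∧ ∃ d, V.q d = 0 ∧ d ∉ S ∧ d ≠ a ∧ d ≠ V.P a ∧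
          (k : (ι → F) ≃ₗ[F] (ι → F)) v₀ (V.P d) ≠ 0 := by
      intro e he hea hve
      have heS : e ∉ S := by rcases hea with rfl | rfl <;> assumption
      have hce : c ≠ e := by rcases hea with rfl | rfl <;> assumption
      have hPce : V.P c ≠ e := by rcases hea with rfl | rfl <;> assumption
      have hp := h.perp (F := F) (Q := Q) hPce (1 : F)
      refine ⟨_, hE.mem_vec he _ hp, fixes_siegel h hS heS he hp (fun i hi => ?_), V.P c, hqPc, hPcS, hPca, hPcPa, ?_⟩
      · rw [Pi.smul_apply, bs, Pi.single_eq_of_ne (fun e' => hcS (by rw [← e']; exact hi)), smul_zero]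
      · rw [h.ok.invol]
        refine ne_of_eq_of_ne (congrFun (siegel_apply Q _ _ (h.sing_zero he) hp _) c) ?_
        rw [polar_smul_right', map_smul', h.sing_zero hc, h.pol, h.pol, (h.ok.sing e he).1]
        simp [bs, hce, hsupp c hc hca hcPa, hsupp (V.P c) hqPc hPca hPcPa, hve]
    rcases hor with h1 | h1
    · exact pick (V.P a) hqP (Or.inr rfl) (by rwa [h.ok.invol])
    · exact pick a ha (Or.inl rfl) h1
  set v₁ := (k₁ : (ι → F) ≃ₗ[F] (ι → F)) v₀
  have hv₁ : good v₁ := move _ hv₀ _ hk₁S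
  -- make the `a` coordinate one
  have hPda : V.P d ≠ a := fun e => hdPa (by rw [← e, h.ok.invol])
  set l := (v₁ a - 1) / v₁ (V.P d) with hl
  have hp := h.perp (F := F) (Q := Q) hPda l
  set k₂ : orth Q := ⟨siegel Q (bs F a) (l • bs F d) (h.sing_zero ha) hp, siegel_mem_orth _ _ _ _ _⟩
  have hk₂S : Fixes k₂ S := fixes_siegel h hS haS ha hp fun i hi => by
    rw [Pi.smul_apply, bs, Pi.single_eq_of_ne (fun e' => hdS (by rw [← e']; exact hi)), smul_zero]
  set v₂ := (k₂ : (ι → F) ≃ₗ[F] (ι → F)) v₁ with hv₂def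
  have hv₂ : good v₂ := move _ hv₁ _ hk₂S
  have hv₂a : v₂ a = 1 := by
    show siegel Q _ _ (h.sing_zero ha) hp v₁ a = 1
    rw [siegel_apply, map_smul', h.sing_zero hd, polar_smul_right', h.pol, h.pol, (h.ok.sing d hd).1, hw1]
    simp [hda.symm, hl]
    field_simp
    ring
  obtain ⟨k₃, hk₃, hk₃S, hk₃v⟩ := clear_first h hE ha hS haS hv₂.1 (by rw [hv₂a]; exact one_ne_zero) hv₂.2
  set g₁ := k₃ * k₂ * k₁ * g
  have hg₁ : Fixes g₁ S := ((hk₃S.mul hk₂S).mul hk₁S).mul hg
  have hg₁a : (g₁ : (ι → F) ≃ₗ[F] (ι → F)) (bs F a) = (1 : F) • bs F a := by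
    show (k₃ : (ι → F) ≃ₗ[F] (ι → F)) v₂ = _
    rw [hk₃v, hv₂a]
  obtain ⟨k₄, hk₄, hf1, hf2, hf3⟩ := clear_pair h hE ha hS hSq haS hg₁ one_ne_zero hg₁a
  refine ⟨k₄ * k₃ * k₂ * k₁, mul_mem (mul_mem (mul_mem hk₄ hk₃) (hE.mem_vec ha _ hp)) hk₁, ?_⟩
  rw [show k₄ * k₃ * k₂ * k₁ * g = k₄ * g₁ by simp only [g₁, mul_assoc]]
  intro i hi
  simp only [Finset.mem_insert] at hi
  rcases hi with rfl | rfl | hi
  · rw [hf2, one_smul]
  · rw [hf3, inv_one, one_smul]
  · exact hf1 i hi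

/-- Diagonal isometries. -/
noncomputable def dg (h : Space V Q) (d : ι → F) (hd : ∀ i, d i * d (V.P i) = 1) : orth Q :=
  ⟨{ toFun := fun v i => d i * v i
     map_add' := fun u v => funext fun i => mul_add _ _ _
     map_smul' := fun x v => funext fun i => by simp [mul_left_comm]
     invFun := fun v i => d (V.P i) * v i
     left_inv := fun v => funext fun i => by show d (V.P i) * (d i * v i) = v i; rw [← mul_assoc, mul_comm (d _), hd, one_mul]
     right_inv := fun v => funext fun i => by show d i * (d (V.P i) * v i) = v i; rw [← mul_assoc, hd, one_mul] },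
    fun v => h.tor d hd v⟩

theorem dg_apply (h : Space V Q) (d : ι → F) (hd : ∀ i, d i * d (V.P i) = 1) (v : ι → F) (i : ι) :
    (dg h d hd : (ι → F) ≃ₗ[F] (ι → F)) v i = d i * v i := rfl

theorem dg_mul (h : Space V Q) (d d' : ι → F) (hd : ∀ i, d i * d (V.P i) = 1) (hd' : ∀ i, d' i * d' (V.P i) = 1) :
    dg h d hd * dg h d' hd' = dg h (fun i => d i * d' i) (fun i => by
      rw [mul_mul_mul_comm, hd, hd', one_mul]) :=
  Subtype.ext (LinearEquiv.ext fun v => funext fun i => (mul_assoc (d i) (d' i) (v i)).symm)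

theorem dg_congr (h : Space V Q) {d d' : ι → F} {hd : ∀ i, d i * d (V.P i) = 1} {hd' : ∀ i, d' i * d' (V.P i) = 1}
    (e : d = d') : dg h d hd = dg h d' hd' := by subst e; rfl

theorem dg_bs (h : Space V Q) (d : ι → F) (hd : ∀ i, d i * d (V.P i) = 1) (j : ι) :
    (dg h d hd : (ι → F) ≃ₗ[F] (ι → F)) (bs F j) = d j • bs F j := funext fun i => by
  rcases eq_or_ne i j with rfl | hij
  · simp [dg_apply]
  · simp [dg_apply, hij]

/-- The swap of a singular pair. -/
noncomputable def sw (h : Space V Q) (c : ι) (hc : V.q c = 0) : orth Q :=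
  ⟨LinearEquiv.funCongrLeft F F (Equiv.swap c (V.P c)), fun v => h.swap c hc v⟩

theorem sw_bs (h : Space V Q) (c : ι) (hc : V.q c = 0) (j : ι) :
    (sw h c hc : (ι → F) ≃ₗ[F] (ι → F)) (bs F j) = bs F (Equiv.swap c (V.P c) j) := funext fun i => by
  show bs F j (Equiv.swap c (V.P c) i) = _
  simp [Pi.single_apply, Equiv.swap_apply_eq_iff]

theorem sw_mul_self (h : Space V Q) (c : ι) (hc : V.q c = 0) : sw h c hc * sw h c hc = 1 :=
  Subtype.ext (LinearEquiv.ext fun v => funext fun i => by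
    show v (Equiv.swap c (V.P c) (Equiv.swap c (V.P c) i)) = v i
    rw [Equiv.swap_apply_self])

/-- `diag(λ, λ⁻¹)` on two pairs as a product of root elements. -/
theorem two_torus_mem (h : Space V Q) (hE : Full h E) {a c : ι} (ha : V.q a = 0) (hc : V.q c = 0)
    (hca : c ≠ a) (hcPa : c ≠ V.P a) {x : F} (hx : x ≠ 0) :
    ∃ d hd, dg h d hd ∈ E ∧ d a = x ∧ d c = x⁻¹ ∧ ∀ i, i ≠ a → i ≠ V.P a → i ≠ c → i ≠ V.P c → d i = 1 := by
  obtain ⟨hwa, hnea, hqPa⟩ := h.ok.sing a ha
  obtain ⟨hwc, hnec, hqPc⟩ := h.ok.sing c hc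
  have hPca : V.P c ≠ a := fun e => hcPa (by rw [← e, h.ok.invol])
  have hPcPa : V.P c ≠ V.P a := fun e => hca (h.P_inj.1 e)
  let d : ι → F := fun i => if i = a ∨ i = V.P c then x else if i = V.P a ∨ i = c then x⁻¹ else 1
  have hd : ∀ i, d i * d (V.P i) = 1 := fun i => by
    rcases eq_or_ne i a with rfl | h1
    · simp [d, hnea, Ne.symm hPcPa, hx]
    rcases eq_or_ne i (V.P a) with rfl | h2
    · simp [d, hnea, Ne.symm hPcPa, h.ok.invol, hx]
    rcases eq_or_ne i c with rfl | h3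
    · simp [d, hca, Ne.symm hnec, hcPa, hx]
    rcases eq_or_ne i (V.P c) with rfl | h4
    · simp [d, h.ok.invol, hca, Ne.symm hnec, hcPa, hx]
    have e1 : V.P i ≠ a := fun e => h2 (by rw [← e, h.ok.invol])
    have e2 : V.P i ≠ c := fun e => h4 (by rw [← e, h.ok.invol])
    simp [d, h1, h2, h3, h4, e1, e2, h.P_inj]
  have p1 : V.P (V.P c) ≠ a := by rwa [h.ok.invol]
  have p2 : V.P (V.P a) ≠ c := by rw [h.ok.invol]; exact hca.symm
  let X : F → orth Q := fun y =>
    ⟨siegel Q (bs F a) (y • bs F (V.P c)) (h.sing_zero ha) (h.perp p1 y), siegel_mem_orth _ _ _ _ _⟩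
  let Y : F → orth Q := fun y =>
    ⟨siegel Q (bs F c) (y • bs F (V.P a)) (h.sing_zero hc) (h.perp p2 y), siegel_mem_orth _ _ _ _ _⟩
  have hX : ∀ y, X y ∈ E := fun y => hE.mem a (V.P c) ha p1 hPca y
  have hY : ∀ y, Y y ∈ E := fun y => hE.mem c (V.P a) hc p2 hcPa.symm y
  have eX : ∀ y v, (X y : (ι → F) ≃ₗ[F] (ι → F)) v = v + (y * v (V.P a)) • bs F (V.P c) - (y * v c) • bs F a :=
    fun y v => by
      refine (siegel_apply Q _ _ (h.sing_zero ha) (h.perp p1 y) _).trans ?_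
      rw [map_smul', h.sing_zero hqPc, polar_smul_right', h.pol, h.pol, (h.ok.sing _ hqPc).1, hwa,
        h.ok.invol, Int.cast_one]
      module
  have eY : ∀ y v, (Y y : (ι → F) ≃ₗ[F] (ι → F)) v = v + (y * v (V.P c)) • bs F (V.P a) - (y * v a) • bs F c :=
    fun y v => by
      refine (siegel_apply Q _ _ (h.sing_zero hc) (h.perp p2 y) _).trans ?_
      rw [map_smul', h.sing_zero hqPa, polar_smul_right', h.pol, h.pol, (h.ok.sing _ hqPa).1, hwc,
        h.ok.invol, Int.cast_one]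
      module
  refine ⟨d, hd, ?_, by simp [d], by simp [d, hca, Ne.symm hnec], fun i h1 h2 h3 h4 => by simp [d, h1, h2, h3, h4]⟩
  have : dg h d hd = X (-x) * Y x⁻¹ * X (-x) * (X 1 * Y (-1) * X 1) := by
    refine Subtype.ext (LinearEquiv.ext fun v => funext fun i => ?_)
    simp only [Subgroup.coe_mul, LinearEquiv.mul_apply, dg_apply]
    simp only [eX, eY, Pi.add_apply, Pi.sub_apply, Pi.smul_apply, smul_eq_mul]
    rcases eq_or_ne i a with rfl | h1
    · simp [d, hca, hca.symm, hcPa, hcPa.symm, hnea, hnea.symm, hPca, hPca.symm, hPcPa, hPcPa.symm, hnec, hnec.symm]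
      field_simp; ring
    rcases eq_or_ne i (V.P a) with rfl | h2
    · simp [d, hca, hca.symm, hcPa, hcPa.symm, hnea, hnea.symm, hPca, hPca.symm, hPcPa, hPcPa.symm, hnec, hnec.symm]
      field_simp; ring
    rcases eq_or_ne i c with rfl | h3
    · simp [d, hca, hca.symm, hcPa, hcPa.symm, hnea, hnea.symm, hPca, hPca.symm, hPcPa, hPcPa.symm, hnec, hnec.symm]
      field_simp; ring
    rcases eq_or_ne i (V.P c) with rfl | h4
    · simp [d, hca, hca.symm, hcPa, hcPa.symm, hnea, hnea.symm, hPca, hPca.symm, hPcPa, hPcPa.symm, hnec, hnec.symm]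
      field_simp; ring
    simp [d, h1, h2, h3, h4]
  rw [this]
  exact mul_mem (mul_mem (mul_mem (hX _) (hY _)) (hX _)) (mul_mem (mul_mem (hX _) (hY _)) (hX _))

end CfsgLib.ChevIso
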